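import Groth.Prelude.Def_ArtFun
import Mathlib.RingTheory.Flat.Basic
import Mathlib.RingTheory.LocalRing.Module
import Mathlib.RingTheory.TensorProduct.Free
import Mathlib.RingTheory.Artinian.Ring
import Mathlib.RingTheory.HopkinsLevitzki
import Mathlib.RingTheory.Nakayama

/-!
# Endomorphisms of a deformation of a module with scalar endomorphisms
-/

universe u v w w'

namespace Groth.Agent.DefMod95.EndDeform

/-- Universe polymorphic form: flat over a local ring with nilpotent maximal ideal implies free. -/
theorem free_of_flat_of_nilpotent {R : Type u} {M : Type v} [CommRing R] [IsLocalRing R]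
    (hR : IsNilpotent (IsLocalRing.maximalIdeal R))
    [AddCommGroup M] [Module R M] [Module.Flat R M] : Module.Free R M := by
  have hv : ∃ v : Module.Free.ChooseBasisIndex (IsLocalRing.ResidueField R)
      (TensorProduct R (IsLocalRing.ResidueField R) M) → M,
      TensorProduct.mk R _ M 1 ∘ v = Module.Free.chooseBasis _ _ :=
    (TensorProduct.mk_surjective R M _ Ideal.Quotient.mk_surjective).comp_left _
  obtain ⟨v, hv⟩ := hv
  set w := Module.Free.chooseBasis (IsLocalRing.ResidueField R)
      (TensorProduct R (IsLocalRing.ResidueField R) M)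
  have hli : LinearIndependent R v :=
    Module.IsLocalRing.linearIndependent_of_flat v (hv ▸ w.linearIndependent)
  set N := Submodule.span R (Set.range v) with hN
  have h1 : N ⊔ (IsLocalRing.maximalIdeal R) • ⊤ = (⊤ : Submodule R M) := by
    have hk : LinearMap.ker (TensorProduct.mk R (IsLocalRing.ResidueField R) M 1) =
        IsLocalRing.maximalIdeal R • ⊤ := LinearMap.ker_tensorProductMk M
    rw [← hk, ← Submodule.comap_map_eq, hN, Submodule.map_span,
      ← Set.range_comp, hv, ← Submodule.restrictScalars_span R (IsLocalRing.ResidueField R)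
        Ideal.Quotient.mk_surjective, w.span_eq]
    rfl
  have h2 : ∀ k : ℕ, N ⊔ (IsLocalRing.maximalIdeal R) ^ k • ⊤ = (⊤ : Submodule R M) := by
    intro k
    induction k with
    | zero => simp
    | succ k ih =>
      rw [eq_top_iff]
      calc (⊤ : Submodule R M) = N ⊔ (IsLocalRing.maximalIdeal R) ^ k •
            (N ⊔ (IsLocalRing.maximalIdeal R) • ⊤) := by rw [h1, ih]
        _ ≤ N ⊔ (IsLocalRing.maximalIdeal R) ^ (k + 1) • ⊤ := by
          rw [Submodule.smul_sup, pow_succ, Submodule.mul_smul, ← sup_assoc]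
          exact sup_le_sup_right (sup_le le_rfl Submodule.smul_le_right) _
  obtain ⟨k, hk⟩ := hR
  have h3 := h2 k
  rw [hk] at h3
  simp at h3
  exact Module.Free.of_basis (Module.Basis.mk hli (le_of_eq h3.symm))

theorem mem_smul_top_iff {R : Type u} {M : Type v} {ι : Type w} [CommRing R] [AddCommGroup M]
    [Module R M] (b : Module.Basis ι R M) (J : Ideal R) (x : M) :
    x ∈ J • (⊤ : Submodule R M) ↔ ∀ i, b.repr x i ∈ J := by
  constructor
  · intro h i
    refine Submodule.smul_induction_on h (fun r hr n _ => ?_) fun a c ha hc => ?_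
    · rw [map_smul, Finsupp.smul_apply, smul_eq_mul]; exact J.mul_mem_right _ hr
    · rw [map_add, Finsupp.add_apply]; exact J.add_mem ha hc
  · intro h
    rw [← b.linearCombination_repr x, Finsupp.linearCombination_apply]
    exact Submodule.sum_mem _ fun i _ => Submodule.smul_mem_smul (h i) trivial

variable {K : Type u} [Field K] {D : Type v} [Ring D] [Algebra K D]
  {E : Type w} [AddCommGroup E] [Module K E] [Module D E] [IsScalarTower K D E] [Nontrivial E]
  (R : ArtFun.Art K K)
  {F : Type w'} [AddCommGroup F] [Module K F] [Module R F] [Module D F]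
  [IsScalarTower K R F] [IsScalarTower K D F] [SMulCommClass R D F] [Module.Flat R F]

theorem free : Module.Free R F :=
  free_of_flat_of_nilpotent
    (IsLocalRing.jacobson_eq_maximalIdeal (R := R) ⊥ bot_ne_top ▸ IsArtinianRing.isNilpotent_jacobson_bot)

include K in
theorem res_algebraMap (c : K) : R.res (algebraMap K R c) = c := R.res.commutes c

/-- A `D`-linear `R`-endomorphism is a scalar. -/
theorem exists_scalar (hE : ∀ ψ : E →ₗ[D] E, ∃ c : K, ∀ y : E, ψ y = c • y)
    (θ : F →ₗ[D] E) (hθ : ∀ (r : R) (x : F), θ (r • x) = R.res r • θ x)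
    (hsurj : Function.Surjective θ)
    (hker : ∀ x : F, θ x = 0 ↔ x ∈ IsLocalRing.maximalIdeal R • (⊤ : Submodule R F))
    (φ : F →ₗ[R] F) (hφ : ∀ (d : D) (x : F), φ (d • x) = d • φ x) :
    ∃ r : R, ∀ x : F, φ x = r • x := by
  have := free R (F := F)
  let b := Module.Free.chooseBasis R F
  suffices H : ∀ (J : Ideal R) (φ : F →ₗ[R] F), (∀ (d : D) (x : F), φ (d • x) = d • φ x) →
      (∀ x, φ x ∈ J • (⊤ : Submodule R F)) → ∃ r : R, ∀ x : F, φ x = r • x from
    H ⊤ φ hφ fun x => by simp
  intro J
  induction J using IsArtinian.induction with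
  | hgt J ih =>
    intro φ hφ hJ
    by_cases hJ0 : J = ⊥
    · exact ⟨0, fun x => by have := hJ x; simp [hJ0] at this; simp [this]⟩
    have hmJ : IsLocalRing.maximalIdeal R * J < J := by
      refine lt_of_le_of_ne Ideal.mul_le_right fun h => hJ0 ?_
      exact Submodule.eq_bot_of_le_smul_of_le_jacobson_bot (IsLocalRing.maximalIdeal R) J
        (IsNoetherian.noetherian J) h.ge (IsLocalRing.maximalIdeal_le_jacobson _)
    obtain ⟨J', hJ'⟩ := set_has_maximal_iff_noetherian.2 inferInstance
      {I : Ideal R | IsLocalRing.maximalIdeal R * J ≤ I ∧ I < J} ⟨_, le_rfl, hmJ⟩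
    obtain ⟨⟨hmJ', hlt⟩, hmax⟩ := hJ'
    obtain ⟨z, hzJ, hz⟩ := Set.exists_of_ssubset hlt
    have hsup : J' ⊔ Ideal.span {z} = J := by
      by_contra hne
      have hle : J' ⊔ Ideal.span {z} ≤ J := sup_le hlt.le ((Ideal.span_singleton_le_iff_mem _).2 hzJ)
      refine hmax _ ⟨hmJ'.trans le_sup_left, lt_of_le_of_ne hle hne⟩ (lt_of_le_not_ge le_sup_left ?_)
      exact fun h => hz (h (le_sup_right (a := J') (Ideal.subset_span rfl)))
    have hzm : ∀ y : F, θ y = 0 → z • y ∈ J' • (⊤ : Submodule R F) := by
      intro y hy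
      rw [hker, mem_smul_top_iff b] at hy
      rw [mem_smul_top_iff b]
      intro i
      rw [map_smul, Finsupp.smul_apply, smul_eq_mul, mul_comm]
      exact hmJ' (Ideal.mul_mem_mul (hy i) hzJ)
    have hzm' : ∀ y : F, z • y ∈ J' • (⊤ : Submodule R F) → θ y = 0 := by
      intro y hy
      rw [mem_smul_top_iff b] at hy
      rw [hker, mem_smul_top_iff b]
      intro i
      by_contra hi
      have hu : IsUnit (b.repr y i) := by
        by_contra hu; exact hi ((IsLocalRing.mem_maximalIdeal _).2 hu)
      have h1 := hy i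
      rw [map_smul, Finsupp.smul_apply, smul_eq_mul] at h1
      exact hz ((Ideal.mul_unit_mem_iff_mem J' hu).1 h1)
    have hdec : ∀ x, ∃ y : F, φ x - z • y ∈ J' • (⊤ : Submodule R F) := by
      intro x
      have h := hJ x
      rw [← hsup, Submodule.sup_smul, Submodule.mem_sup] at h
      obtain ⟨a, ha, c, hc, hac⟩ := h
      rw [Submodule.ideal_span_singleton_smul, Submodule.mem_smul_pointwise_iff_exists] at hc
      obtain ⟨y, -, rfl⟩ := hc
      exact ⟨y, by rw [← hac]; simpa using ha⟩
    choose g hg using hdec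
    have huniq : ∀ x y, φ x - z • y ∈ J' • (⊤ : Submodule R F) → θ (g x) = θ y := by
      intro x y hy
      rw [← sub_eq_zero, ← map_sub]
      refine hzm' _ ?_
      rw [smul_sub]
      simpa using Submodule.sub_mem _ hy (hg x)
    have hDsmul : ∀ (d : D) (y : F), y ∈ J' • (⊤ : Submodule R F) → d • y ∈ J' • (⊤ : Submodule R F) := by
      intro d y hy
      refine Submodule.smul_induction_on hy (fun r hr n _ => ?_) fun a c ha hc => ?_
      · rw [← smul_comm r d]; exact Submodule.smul_mem_smul hr trivial
      · rw [smul_add]; exact Submodule.add_mem _ ha hc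
    have hwd : ∀ x, θ x = 0 → θ (g x) = 0 := by
      intro x hx
      refine (huniq x 0 ?_).trans (map_zero θ)
      rw [smul_zero, sub_zero]
      rw [hker] at hx
      refine Submodule.smul_induction_on hx (fun r hr n _ => ?_) fun a c ha hc => ?_
      · rw [map_smul]
        have h1 := Submodule.smul_mem_smul hr (hJ n)
        rw [← Submodule.mul_smul] at h1
        exact Submodule.smul_mono_left hmJ' h1
      · rw [map_add]; exact Submodule.add_mem _ ha hc
    have hgadd : ∀ x y, θ (g (x + y)) = θ (g x) + θ (g y) := fun x y => by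
      rw [← map_add]
      refine huniq _ _ ?_
      rw [map_add, smul_add, add_sub_add_comm]
      exact Submodule.add_mem _ (hg x) (hg y)
    let ψ₀ : F →ₗ[D] E :=
      { toFun := fun x => θ (g x)
        map_add' := hgadd
        map_smul' := fun d x => by
          rw [RingHom.id_apply, ← map_smul]
          refine huniq _ _ ?_
          rw [hφ, smul_comm z d, ← smul_sub]
          exact hDsmul d _ (hg x) }
    have hle : LinearMap.ker θ ≤ LinearMap.ker ψ₀ := fun x hx => hwd x hx
    let e : (F ⧸ LinearMap.ker θ) ≃ₗ[D] E := LinearMap.quotKerEquivOfSurjective θ hsurj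
    let ψ : E →ₗ[D] E := (LinearMap.ker θ).liftQ ψ₀ hle ∘ₗ e.symm.toLinearMap
    have hψ : ∀ x, ψ (θ x) = θ (g x) := fun x => by
      have he : e.symm (θ x) = Submodule.Quotient.mk x := e.symm_apply_eq.2 rfl
      show (LinearMap.ker θ).liftQ ψ₀ hle (e.symm (θ x)) = _
      rw [he]
      rfl
    obtain ⟨c, hc⟩ := hE ψ
    have hall : ∀ x, (φ - (z * algebraMap K R c) • LinearMap.id : F →ₗ[R] F) x ∈
        J' • (⊤ : Submodule R F) := by
      intro x
      have h2 : θ (g x - algebraMap K R c • x) = 0 := by
        rw [map_sub, hθ, res_algebraMap, ← hψ, hc, sub_self]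
      have h3 := Submodule.add_mem _ (hg x) (hzm _ h2)
      simpa [smul_sub, mul_smul, sub_add_sub_cancel] using h3
    obtain ⟨r, hr⟩ := ih J' hlt _ (fun d x => by
      simp [hφ, smul_sub, smul_comm (z * algebraMap K R c) d]) hall
    exact ⟨r + z * algebraMap K R c, fun x => by
      have := hr x
      simp only [LinearMap.sub_apply, LinearMap.smul_apply, LinearMap.id_apply, sub_eq_iff_eq_add] at this
      rw [this, add_smul]⟩

theorem scalar_unique (θ : F →ₗ[D] E) (hsurj : Function.Surjective θ)
    {r r' : R} (h : ∀ x : F, r • x = r' • x) : r = r' := by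
  have := free R (F := F)
  have : Nontrivial F := hsurj.nontrivial
  let b := Module.Free.chooseBasis R F
  obtain ⟨i⟩ := b.index_nonempty
  simpa using congrArg (fun y => b.repr y i) (h (b i))

end Groth.Agent.DefMod95.EndDeform
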